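import Groth.Agent.Lib.StCurv.RelDimOne
import Groth.Agent.Lib.AlgSpace.Basic

/-!
Geometric fibres of families of schemes.
-/

set_option autoImplicit false
set_option backward.isDefEq.respectTransparency false
set_option backward.isDefEq.respectTransparency.types false

universe u

open CategoryTheory CategoryTheory.Limits AlgebraicGeometry

namespace Groth.Agent.Lib.StCurv

variable {S : Scheme.{u}}

/-- A square of sheaves over a family of schemes comes from a square of schemes. -/
theorem exists_isPullback_of_schFam {X T : Over S} (h : X ⟶ T) {Ω : Type u} [Field Ω]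
    {t : Spec (CommRingCat.of Ω) ⟶ T.left} {X' : Scheme.{u}} {q : X' ⟶ Spec (CommRingCat.of Ω)}
    {i : (AlgSp.yon S).obj ((schFam h).ptOver (q ≫ t)) ⟶ (schFam h).X}
    (hP : IsPullback i ((AlgSp.yon S).map ((schFam h).fibHom t q)) (schFam h).f
      ((AlgSp.yon S).map ((schFam h).ptHom t))) :
    ∃ j : X' ⟶ X.left, IsPullback j q h.left t := by
  obtain ⟨j, rfl⟩ := (AlgSp.yon S).map_surjective i
  exact ⟨j.left, (IsPullback.of_map (AlgSp.yon S)
    ((AlgSp.yon S).map_injective (by simpa only [Functor.map_comp] using hP.w)) hP).map (Over.forget S)⟩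

/-- The geometric fibres of a surjective family of schemes are nonempty. -/
theorem geomFib_nonempty_of_surjective {X T : Over S} (h : X ⟶ T) [Surjective h.left] :
    CurvSt.GeomFib (fun _ _ _ X' _ _ => Nonempty ↥X') (schFam h) := by
  intro Ω _ _ t X' q i hP
  obtain ⟨j, sq⟩ := exists_isPullback_of_schFam h hP
  haveI : Surjective q := MorphismProperty.of_isPullback (P := @Surjective) sq inferInstance
  exact ⟨(q.surjective (IsLocalRing.closedPoint Ω)).choose⟩

/-- The projective line over an algebraically closed point, with its nonempty geometric fibres. -/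
theorem exists_p1Fam' (Ω : Type u) [Field Ω] (t : Spec (CommRingCat.of Ω) ⟶ S) :
    ∃ (X : Over S) (h : X ⟶ Over.mk t), SmoothOfRelativeDimension 1 h.left ∧ Surjective h.left ∧
      CurvSt.IsCurveFam (schFam h) := by
  let h : Over.mk (CohB1.ProjSpace.toSpec 1 Ω ≫ t) ⟶ Over.mk t :=
    Over.homMk (CohB1.ProjSpace.toSpec 1 Ω) rfl
  haveI : SmoothOfRelativeDimension 1 h.left :=
    inferInstanceAs (SmoothOfRelativeDimension 1 (CohB1.ProjSpace.toSpec 1 Ω))
  haveI : Smooth h.left := SmoothOfRelativeDimension.smooth 1 _
  haveI : IsProper h.left := inferInstanceAs (IsProper (CohB1.ProjSpace.toSpec 1 Ω))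
  exact ⟨_, h, inferInstance, inferInstanceAs (Surjective (CohB1.ProjSpace.toSpec 1 Ω)),
    isCurveFam_schFam h fun x => (((smoothOfRelativeDimension_iff 1 h.left).1 inferInstance x).2).le⟩

end Groth.Agent.Lib.StCurv
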