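import Groth.Agent.Lib.StCurv.RelDimOne
import Groth.Agent.H25.Morse.Locus
import Groth.Agent.S1592
import Groth.Agent.S1593
import Groth.Agent.S1595
import Groth.Agent.S7912

/-!
Being at worst nodal at points is a good condition.
-/

set_option autoImplicit false
set_option backward.isDefEq.respectTransparency false
set_option backward.isDefEq.respectTransparency.types false

universe u

open CategoryTheory CategoryTheory.Limits AlgebraicGeometry

namespace Groth.Agent.Lib.StCurv

/-- At worst nodal of relative dimension one near a point. -/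
abbrev nodalCond : PtCond.{u} := fun X _ f x =>
  ∃ W : X.Opens, x ∈ W ∧ Curv2.IsNodalFamily (W.ι ≫ f)

variable {X Y X' : Scheme.{u}}

theorem isNodalFamily_iff_forall (f : X ⟶ Y) :
    Curv2.IsNodalFamily f ↔ ∀ x, nodalCond f x := by
  refine ⟨fun h x => ⟨⊤, trivial, Groth.Agent.S1592.result f h (⊤ : X.Opens).ι⟩, fun h => ?_⟩
  choose W hW hs using h
  exact Groth.Agent.S1593.result f X (fun x => W x) (fun x => (W x).ι)
    (fun x => ⟨x, ⟨x, hW x⟩, rfl⟩) hs

theorem nodalCond_src (p : X' ⟶ X) [Etale p] (f : X ⟶ Y) (z : X') :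
    nodalCond (p ≫ f) z ↔ nodalCond f (p z) := by
  constructor
  · rintro ⟨W, hW, hs⟩
    let W₁ : X.Opens := ⟨p '' (W : Set X'), p.isOpenMap _ W.2⟩
    let q : W.toScheme ⟶ W₁.toScheme := IsOpenImmersion.lift W₁.ι (W.ι ≫ p) (by
      rintro _ ⟨t, rfl⟩
      rw [Scheme.Opens.range_ι, Scheme.Hom.comp_apply]
      exact ⟨_, t.2, rfl⟩)
    have hq : q ≫ W₁.ι = W.ι ≫ p := IsOpenImmersion.lift_fac _ _ _
    have : Etale q := by
      have : Etale (q ≫ W₁.ι) := by rw [hq]; infer_instance
      exact SourceDescent.Scheme.of_postcomp_etale SourceDescent.Scheme.etale q W₁.ι this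
    refine ⟨W₁, ⟨z, hW, rfl⟩, Groth.Agent.S1593.result (W₁.ι ≫ f) PUnit.{u + 1} (fun _ => W.toScheme)
      (fun _ => q) (fun ⟨t, s, hs', e⟩ => ⟨PUnit.unit, ⟨s, hs'⟩, ?_⟩) fun _ => ?_⟩
    · apply Subtype.ext
      change W₁.ι (q ⟨s, hs'⟩) = t
      rw [← Scheme.Hom.comp_apply, hq, Scheme.Hom.comp_apply]
      exact e
    · rw [← Category.assoc, hq, Category.assoc]
      exact hs
  · rintro ⟨W, hW, hs⟩
    refine ⟨p ⁻¹ᵁ W, hW, ?_⟩
    rw [← morphismRestrict_ι_assoc]
    exact Groth.Agent.S1592.result _ hs _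

theorem nodalCond_good : nodalCond.{u}.Good where
  isOpen f _ := isOpen_iff_forall_mem_open.2 fun _ ⟨W, hW, hs⟩ =>
    ⟨W, fun _ hy => ⟨W, hy, hs⟩, W.2, hW⟩
  src p _ f _ z := nodalCond_src p f z
  bc {X' X Y' Y g' f' f g} sq h z := by
    have := h.1; have := h.2
    have e : nodalCond f' z ↔ nodalCond (pullback.snd f g) (sq.isoPullback.hom z) := by
      rw [← nodalCond_src sq.isoPullback.hom (pullback.snd f g) z, sq.isoPullback_hom_snd]
    rw [e, show g' z = pullback.fst f g (sq.isoPullback.hom z) by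
      rw [← Scheme.Hom.comp_apply, sq.isoPullback_hom_fst]]
    exact ⟨H25.Morse.Locus.of_baseChange f g _, fun ⟨W, hW, hs⟩ =>
      ⟨_, hW, H25.Morse.Locus.isNodalFamily_preimage f g W hs⟩⟩

theorem nodalCond_tgtInv : nodalCond.{u}.TgtInv := fun k β _ _ z => by
  constructor
  · rintro ⟨W, hW, hs⟩
    refine ⟨W, hW, ?_⟩
    let g := W.ι ≫ k
    have hg : (W.ι ≫ k ≫ β) = g ≫ β := (Category.assoc _ _ _).symm
    rw [hg] at hs
    let l := pullback.lift (f := g ≫ β) (g := β) (𝟙 _) g (Category.id_comp _)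
    have : Etale l := by
      have : Etale (l ≫ pullback.fst (g ≫ β) β) := by rw [pullback.lift_fst]; infer_instance
      exact SourceDescent.Scheme.of_postcomp_etale SourceDescent.Scheme.etale l _ this
    have h1 := Groth.Agent.S1592.result _ (Groth.Agent.S7912.result (g ≫ β) hs β) l
    rwa [pullback.lift_snd] at h1
  · rintro ⟨W, hW, hs⟩
    refine ⟨W, hW, ?_⟩
    rw [← Category.assoc]
    exact Groth.Agent.S1595.result β _ hs

variable {S : Scheme.{u}}

theorem locP_nodalFam_of_smooth {A : CurvSt.SpFamObj S 0} (hA : CurvSt.IsCurveFam A) {U : Over S}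
    {a : (AlgSp.yon S).obj U ⟶ A.X} {h : U ⟶ A.base} (ha : AlgSp.RepWith @Etale a)
    (has : AlgSp.RepWith @Surjective a) (w : a ≫ A.f = (AlgSp.yon S).map h)
    [SmoothOfRelativeDimension 1 h.left] : AlgSp.LocP CurvSt.nodalFam A.f :=
  (locP_iff_chart nodalCond_good nodalCond_tgtInv (fun f _ => isNodalFamily_iff_forall f)
    hA ha has w).2 ((isNodalFamily_iff_forall h.left).1 (H25.Morse.RelDim.isNodalFamily h.left))

end Groth.Agent.Lib.StCurv
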