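import Groth.Agent.Lib.AlgStack.OpenLocus
import Groth.Agent.Lib.AlgSpMor.LocP
import Groth.Agent.Lib.AlgSpMor.Proper
import Groth.Agent.Lib.AlgSpace.Points
import Groth.Prelude.Def_StCurv2

/-!
Open substacks of the stack of curves cut out by conditions at the points of the total space.
-/

set_option autoImplicit false
set_option backward.isDefEq.respectTransparency false
set_option backward.isDefEq.respectTransparency.types false

universe u

open CategoryTheory CategoryTheory.Limits AlgebraicGeometry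

namespace Groth.Agent.Lib.StCurv

open AlgSp (Sp yon RepWith IsAlgSpace LocP Points)
open Groth.Agent.Lib.AlgSpace Groth.Agent.Lib.AlgSpMor

/-- A condition on morphisms of schemes at the points of the source. -/
abbrev PtCond := ∀ ⦃X Y : Scheme.{u}⦄, (X ⟶ Y) → X → Prop

/-- The morphisms on which point conditions are tested. -/
def Tame {X Y : Scheme.{u}} (f : X ⟶ Y) : Prop := Flat f ∧ LocallyOfFinitePresentation f

theorem Tame.precomp {X' X Y : Scheme.{u}} {p : X' ⟶ X} [Etale p] {f : X ⟶ Y} (h : Tame f) :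
    Tame (p ≫ f) := by
  have := h.1; have := h.2
  exact ⟨inferInstance, inferInstance⟩

theorem Tame.baseChange {X' X Y' Y : Scheme.{u}} {g' : X' ⟶ X} {f' : X' ⟶ Y'} {f : X ⟶ Y}
    {g : Y' ⟶ Y} (sq : IsPullback g' f' f g) (h : Tame f) : Tame f' :=
  ⟨MorphismProperty.of_isPullback (P := @Flat) sq h.1,
    MorphismProperty.of_isPullback (P := @LocallyOfFinitePresentation) sq h.2⟩

/-- Invariance of a point condition. -/
structure PtCond.Good (R : PtCond.{u}) : Prop where
  isOpen : ∀ {X Y : Scheme.{u}} (f : X ⟶ Y), Tame f → IsOpen {x | R f x}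
  src : ∀ {X' X Y : Scheme.{u}} (p : X' ⟶ X) [Etale p] (f : X ⟶ Y), Tame f →
    ∀ z, R (p ≫ f) z ↔ R f (p z)
  bc : ∀ {X' X Y' Y : Scheme.{u}} {g' : X' ⟶ X} {f' : X' ⟶ Y'} {f : X ⟶ Y} {g : Y' ⟶ Y},
    IsPullback g' f' f g → Tame f → ∀ z, R f' z ↔ R f (g' z)

/-- Invariance under etale maps of the base. -/
def PtCond.TgtInv (R : PtCond.{u}) : Prop :=
  ∀ {X Y Y' : Scheme.{u}} (k : X ⟶ Y) (β : Y ⟶ Y') [Etale β], Tame (k ≫ β) →
    ∀ z, R (k ≫ β) z ↔ R k z

variable {S : Scheme.{u}} {n : ℕ}

theorem repWith_etale_id (T : Over S) : RepWith @Etale (𝟙 ((yon S).obj T)) :=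
  haveI : MorphismProperty.ContainsIdentities (@Etale : MorphismProperty Scheme.{u}) :=
    ⟨fun X => inferInstanceAs (Etale (𝟙 X))⟩
  AlgSp.repWith_id @Etale T

theorem repWith_surjective_id (T : Over S) : RepWith @Surjective (𝟙 ((yon S).obj T)) :=
  haveI : MorphismProperty.ContainsIdentities (@Surjective : MorphismProperty Scheme.{u}) :=
    ⟨fun X => inferInstanceAs (Surjective (𝟙 X))⟩
  AlgSp.repWith_id @Surjective T

/-- Charts of a family over its base. -/
theorem exists_chart {A : CurvSt.SpFamObj S n} (hA : CurvSt.IsCurveFam A) :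
    ∃ (U : Over S) (a : (yon S).obj U ⟶ A.X) (h : U ⟶ A.base),
      RepWith @Etale a ∧ RepWith @Surjective a ∧ a ≫ A.f = (yon S).map h := by
  obtain ⟨U, a, h, ha, has, w⟩ := LocP.exists_chart_over hA.1 (IsAlgSpace.yon_obj A.base) A.f
    (repWith_etale_id A.base) (repWith_surjective_id A.base)
  exact ⟨U, a, h, ha, has, w.trans (Category.comp_id _)⟩

theorem tame_chart {A : CurvSt.SpFamObj S n} (hA : CurvSt.IsCurveFam A) {U : Over S}
    {a : (yon S).obj U ⟶ A.X} {h : U ⟶ A.base} (ha : RepWith @Etale a)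
    (w : a ≫ A.f = (yon S).map h) : Tame h.left :=
  ⟨hA.2.1 a (𝟙 _) h ha (repWith_etale_id _) (w.trans (Category.comp_id _).symm),
    hA.2.2.2.1.1 a (𝟙 _) h ha (repWith_etale_id _) (w.trans (Category.comp_id _).symm)⟩

/-- A property read etale locally is read on the points of one chart over the base. -/
theorem locP_iff_chart {R : PtCond.{u}} (hR : R.Good) (hT : R.TgtInv) {P : MorphismProperty Scheme.{u}}
    (hP : ∀ {X Y : Scheme.{u}} (f : X ⟶ Y), Tame f → (P f ↔ ∀ x, R f x)) {A : CurvSt.SpFamObj S n}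
    (hA : CurvSt.IsCurveFam A) {U : Over S}
    {a : (yon S).obj U ⟶ A.X} {h : U ⟶ A.base} (ha : RepWith @Etale a) (has : RepWith @Surjective a)
    (w : a ≫ A.f = (yon S).map h) : LocP P A.f ↔ ∀ u, R h.left u := by
  have ht := tame_chart hA ha w
  refine ⟨fun H => (hP _ ht).1 (H a (𝟙 _) h ha (repWith_etale_id _)
    (w.trans (Category.comp_id _).symm)), fun H => ?_⟩
  intro U' V' a' b' h' ha' hb' w'
  have ht' : Tame h'.left :=
    ⟨hA.2.1 a' b' h' ha' hb' w', hA.2.2.2.1.1 a' b' h' ha' hb' w'⟩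
  refine (hP _ ht').2 fun u' => ?_
  obtain ⟨U'', p, q, sq⟩ := exists_isPullback_yon hA.1.diag a a'
  haveI : Etale p.left := repWith_property ha' sq.flip
  haveI : Etale q.left := repWith_property ha sq
  haveI : Surjective q.left := repWith_property has sq
  obtain ⟨β, rfl⟩ := (yon S).map_surjective b'
  haveI : Etale β.left := (AlgSp.repWith_yon_map_iff _ β).1 hb'
  have k : p ≫ h = (q ≫ h') ≫ β := (yon S).map_injective (by
    rw [Functor.map_comp, Functor.map_comp, Functor.map_comp, Category.assoc, ← w, ← w',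
      reassoc_of% sq.w])
  obtain ⟨z, rfl⟩ := q.left.surjective u'
  have h1 : R (p.left ≫ h.left) z := (hR.src p.left h.left ht z).2 (H _)
  have h2 : Tame ((q.left ≫ h'.left) ≫ β.left) := by
    rw [← Over.comp_left, ← Over.comp_left, ← k, Over.comp_left]
    exact ht.precomp
  rw [← Over.comp_left, k, Over.comp_left, Over.comp_left] at h1
  exact (hR.src q.left h'.left ht' z).1 ((hT _ β.left h2 z).1 h1)

/-- The open locus of the base over which the condition holds. -/
theorem exists_opens {R : PtCond.{u}} (hR : R.Good) (Q : CurvSt.SpFamObj S n → Prop)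
    (hQ : ∀ B : CurvSt.SpFamObj S n, CurvSt.IsCurveFam B → ∀ (U : Over S)
      (a : (yon S).obj U ⟶ B.X) (h : U ⟶ B.base), RepWith @Etale a → RepWith @Surjective a →
      a ≫ B.f = (yon S).map h → (Q B ↔ ∀ u, R h.left u))
    {A : CurvSt.SpFamObj S n} (hA : CurvSt.IsCurveFam A) :
    ∃ O : A.base.left.Opens, ∀ (B : CurvSt.SpFamObj S n) (_ : CurvSt.IsCurveFam B) (φ : B ⟶ A),
      Q B ↔ Set.range φ.base.left ⊆ (O : Set A.base.left) := by
  obtain ⟨U, a, h, ha, has, w⟩ := exists_chart hA
  have ht := tame_chart hA ha w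
  let Z : Set U.left := {u | ¬ R h.left u}
  have hsat : Points.ofPt a ⁻¹' (Points.ofPt a '' Z) = Z := by
    refine Set.Subset.antisymm ?_ (Set.subset_preimage_image _ _)
    rintro u ⟨u', hu', e⟩
    obtain ⟨U'', p, q, sq⟩ := exists_isPullback_yon hA.1.diag a a
    haveI : Etale p.left := repWith_property ha sq.flip
    haveI : Etale q.left := repWith_property ha sq
    have k : p ≫ h = q ≫ h := (yon S).map_injective (by
      rw [Functor.map_comp, Functor.map_comp, ← w, reassoc_of% sq.w])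
    obtain ⟨z, rfl, rfl⟩ := (ofPt_eq_ofPt_iff_of_isPullback sq _ _).1 e.symm
    intro hp
    apply hu'
    rw [← hR.src q.left h.left ht z, ← Over.comp_left, ← k, Over.comp_left]
    exact (hR.src p.left h.left ht z).2 hp
  have hc : IsClosed (Points.ofPt a '' Z) := by
    rw [← isOpen_compl_iff, isOpen_iff_chart ha has, Set.preimage_compl, hsat, isOpen_compl_iff]
    exact ⟨by simpa only [Z, Set.compl_ofPred, not_not] using hR.isOpen h.left ht⟩
  have hh : (Points.schemeHomeo A.base) '' (h.left '' Z) = Points.map A.f '' (Points.ofPt a '' Z) := by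
    rw [Set.image_image, Set.image_image]
    refine Set.image_congr fun u _ => ?_
    rw [Points.map_ofPt, w, ← Points.map_yon_map_apply, Points.ofPt_eq_map_ofScheme]; rfl
  have hcl : IsClosed (h.left '' Z) := by
    rw [← (Points.schemeHomeo A.base).isClosed_image, hh]
    exact Proper.isClosedMap_of_isUnivClosedMor (IsAlgSpace.yon_obj A.base) hA.2.2.1.2.2 _ hc
  refine ⟨⟨(h.left '' Z)ᶜ, hcl.isOpen_compl⟩, fun B hB φ => ?_⟩
  let W := Limits.pullback h φ.base
  let a' : (yon S).obj W ⟶ B.X := φ.cart.lift ((yon S).map (pullback.fst h φ.base) ≫ a)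
    ((yon S).map (pullback.snd h φ.base)) (by
      rw [Category.assoc, w, ← Functor.map_comp, ← Functor.map_comp, pullback.condition])
  have w' : a' ≫ B.f = (yon S).map (pullback.snd h φ.base) := φ.cart.lift_snd _ _ _
  have sqa : IsPullback ((yon S).map (pullback.fst h φ.base)) a' a φ.top := by
    refine IsPullback.of_bot (h₁₁ := (yon S).map (pullback.fst h φ.base)) ?_ (φ.cart.lift_fst _ _ _).symm
      φ.cart
    rw [w', w]
    exact isPullback_yon (IsPullback.of_hasPullback h φ.base)
  have ha' : RepWith @Etale a' := repWith_baseChange sqa ha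
  have has' : RepWith @Surjective a' := repWith_baseChange sqa has
  have sqW : IsPullback (pullback.fst h φ.base).left (pullback.snd h φ.base).left h.left φ.base.left :=
    (IsPullback.of_hasPullback h φ.base).map (Over.forget S)
  rw [hQ B hB W a' (pullback.snd h φ.base) ha' has' w']
  constructor
  · rintro H _ ⟨t', rfl⟩ ⟨u, hu, e⟩
    obtain ⟨z, hz1, hz2⟩ := Scheme.Pullback.exists_preimage_pullback u t' e
    let k := sqW.isoPullback
    apply hu
    rw [← hz1, ← show (pullback.fst h φ.base).left (k.inv z) = pullback.fst h.left φ.base.left z by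
      rw [← Scheme.Hom.comp_apply, sqW.isoPullback_inv_fst]]
    exact (hR.bc sqW ht _).1 (H _)
  · intro H z
    refine (hR.bc sqW ht z).2 (not_not.1 fun hz => ?_)
    refine H ⟨(pullback.snd h φ.base).left z, rfl⟩ ⟨(pullback.fst h φ.base).left z, hz, ?_⟩
    rw [← Scheme.Hom.comp_apply, sqW.w, Scheme.Hom.comp_apply]

theorem range_subset_iff {X X' Y Y' : Over S} (a : X' ≅ X) (g : X ⟶ Y) (b : Y ≅ Y')
    (O : Set Y'.left) :
    Set.range (a.hom ≫ g ≫ b.hom).left ⊆ O ↔ Set.range g.left ⊆ b.hom.left ⁻¹' O := by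
  constructor
  · rintro H _ ⟨t, rfl⟩
    refine H ⟨a.inv.left t, ?_⟩
    rw [← Scheme.Hom.comp_apply, ← Scheme.Hom.comp_apply, ← Over.comp_left, ← Over.comp_left,
      Iso.inv_hom_id_assoc]
  · rintro H _ ⟨t, rfl⟩
    simpa using H ⟨a.hom.left t, rfl⟩

variable (S n) in
/-- A condition with open loci defines an open substack of the stack of curves. -/
theorem isOpenSubstack_of_opens (hC : AlgSt.IsAlgStack Scheme.fppfPrecoverage (CurvSt.Curves S n))
    (Q : CurvSt.SpFamObj S n → Prop)
    (hO : ∀ A : CurvSt.SpFamObj S n, CurvSt.IsCurveFam A →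
      ∃ O : A.base.left.Opens, ∀ (B : CurvSt.SpFamObj S n) (_ : CurvSt.IsCurveFam B) (φ : B ⟶ A),
        Q B ↔ Set.range φ.base.left ⊆ (O : Set A.base.left)) :
    AlgSt.IsOpenSubstack (CurvSt.Curves S n) (fun A => Q A.obj) Scheme.fppfPrecoverage := by
  refine AlgStack.OpenLocus.isOpenSubstack ⟨fun {A B} e hA => ?_⟩ ?_ hC
  · obtain ⟨O, hO⟩ := hO A.obj A.property
    have h1 := (hO A.obj A.property (𝟙 _)).1 hA
    refine (hO B.obj B.property e.inv.hom).2 ?_
    rintro _ ⟨t, rfl⟩
    exact h1 ⟨_, rfl⟩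
  · intro U y
    let A₀ := y.obj (Over.mk (𝟙 U))
    have hb : U = A₀.obj.base := (y.w_obj (Over.mk (𝟙 U))).symm
    obtain ⟨O, hO⟩ := hO A₀.obj A₀.property
    refine ⟨(eqToIso hb).hom.left ⁻¹ᵁ O, fun g => ?_⟩
    let φ : y.obj g ⟶ A₀ := y.map (AlgStack.Yoneda.toId g)
    have := AlgStack.Yoneda.map_toId_isHomLift y g
    have hφ := IsHomLift.fac' (CurvSt.Curves S n).p g.hom φ
    change φ.hom.base = _ at hφ
    refine (hO _ (y.obj g).property φ.hom).trans ?_
    rw [hφ]
    exact range_subset_iff (eqToIso (y.w_obj g)) g.hom (eqToIso hb) O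

/-- A pointwise condition defines an open substack of the stack of curves. -/
theorem isOpenSubstack_of_ptCond
    (hC : AlgSt.IsAlgStack Scheme.fppfPrecoverage (CurvSt.Curves S n))
    {R : PtCond.{u}} (hR : R.Good) (Q : CurvSt.SpFamObj S n → Prop)
    (hQ : ∀ B : CurvSt.SpFamObj S n, CurvSt.IsCurveFam B → ∀ (U : Over S)
      (a : (yon S).obj U ⟶ B.X) (h : U ⟶ B.base), RepWith @Etale a → RepWith @Surjective a →
      a ≫ B.f = (yon S).map h → (Q B ↔ ∀ u, R h.left u)) :
    AlgSt.IsOpenSubstack (CurvSt.Curves S n) (fun A => Q A.obj) Scheme.fppfPrecoverage :=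
  isOpenSubstack_of_opens S n hC Q fun _ hA => exists_opens hR Q hQ hA

/-- Conditions read etale locally define open substacks of the stack of curves. -/
theorem isOpenSubstack_locP
    (hC : AlgSt.IsAlgStack Scheme.fppfPrecoverage (CurvSt.Curves S n))
    {R : PtCond.{u}} (hR : R.Good) (hT : R.TgtInv) {P : MorphismProperty Scheme.{u}}
    (hP : ∀ {X Y : Scheme.{u}} (f : X ⟶ Y), Tame f → (P f ↔ ∀ x, R f x)) :
    AlgSt.IsOpenSubstack (CurvSt.Curves S n) (fun A => LocP P A.obj.f) Scheme.fppfPrecoverage :=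
  isOpenSubstack_of_ptCond hC hR (fun A => LocP P A.f) fun _ hB _ _ _ ha has w =>
    locP_iff_chart hR hT hP hB ha has w

end Groth.Agent.Lib.StCurv
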