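import Groth.Agent.Lib.StCurv.Criterion
import Groth.Agent.Lib.Flat55.SmoothAt
import Groth.Agent.Lib.Unram.BaseChangeNhd
import Groth.Agent.Lib.Unram.SmoothAscent
import Groth.Agent.Lib.SourceDescent.Scheme
import Groth.Agent.Lib.AlgSpThick.FibreDim
import Groth.Agent.Lib.Kaehler.SmoothChart
import Groth.Agent.H2.FibreDimPullback

/-!
Smoothness at points, also with prescribed relative dimension, is a good condition.
-/

set_option autoImplicit false
set_option backward.isDefEq.respectTransparency false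
set_option backward.isDefEq.respectTransparency.types false

universe u

open CategoryTheory CategoryTheory.Limits AlgebraicGeometry

namespace Groth.Agent.Lib.StCurv

/-- Smooth in a neighbourhood of a point. -/
abbrev smoothCond : PtCond.{u} := fun X _ f x => ∃ W : X.Opens, x ∈ W ∧ Smooth (W.ι ≫ f)

variable {X Y X' Y' : Scheme.{u}}

theorem smooth_iff_forall (f : X ⟶ Y) : Smooth f ↔ ∀ x, smoothCond f x := by
  refine ⟨fun h x => ⟨⊤, trivial, inferInstance⟩, fun h => ?_⟩
  choose W hW hs using h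
  exact (IsZariskiLocalAtSource.iff_of_iSup_eq_top (P := @Smooth) W
    (eq_top_iff.2 fun x _ => TopologicalSpace.Opens.mem_iSup.2 ⟨x, hW x⟩)).2 hs

theorem smoothCond_bc {g' : X' ⟶ X} {f' : X' ⟶ Y'} {f : X ⟶ Y} {g : Y' ⟶ Y}
    (sq : IsPullback g' f' f g) (z : X') (h : smoothCond f (g' z)) : smoothCond f' z := by
  obtain ⟨W, hW, hs⟩ := h
  exact ⟨g' ⁻¹ᵁ W, hW,
    MorphismProperty.of_isPullback (P := @Smooth) ((isPullback_morphismRestrict g' W).paste_vert sq) hs⟩

theorem smooth_smoothLocus (g : X ⟶ Y) [LocallyOfFinitePresentation g] :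
    Smooth (g.smoothLocus.ι ≫ g) := by
  rw [← Scheme.Hom.smoothLocus_eq_top_iff, ← Scheme.Hom.preimage_smoothLocus_eq,
    Scheme.Opens.ι_preimage_self]

theorem smoothCond_of_fibre {f : X ⟶ Y} [LocallyOfFinitePresentation f] [Flat f] (y : Y)
    (η : f.fiber y) (h : smoothCond (f.fiberToSpecResidueField y) η) :
    smoothCond f (f.fiberι y η) := by
  obtain ⟨O, hO, hs⟩ := h
  obtain ⟨V, hV, hVO⟩ := (f.fiberι y).isEmbedding.isInducing.isOpen_iff.1 O.2
  let V' : X.Opens := ⟨V, hV⟩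
  have hO' : f.fiberι y ⁻¹ᵁ V' = O := TopologicalSpace.Opens.ext hVO
  subst hO'
  have sq : IsPullback (f.fiberι y ∣_ V') ((f.fiberι y ⁻¹ᵁ V').ι ≫ f.fiberToSpecResidueField y)
      (V'.ι ≫ f) (Y.fromSpecResidueField y) :=
    (isPullback_morphismRestrict (f.fiberι y) V').paste_vert
      (IsPullback.of_hasPullback f (Y.fromSpecResidueField y))
  have hfib : Smooth ((V'.ι ≫ f).fiberToSpecResidueField y) := by
    change Smooth (pullback.snd (V'.ι ≫ f) (Y.fromSpecResidueField y))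
    rw [← sq.isoPullback_inv_snd]
    infer_instance
  refine ⟨V'.ι ''ᵁ (V'.ι ≫ f).smoothLocus, ?_, ?_⟩
  · refine ⟨⟨f.fiberι y η, hO⟩, Flat55.SmoothAt.mem_smoothLocus_of_fibre (V'.ι ≫ f) _
      (Flat.stalkMap _ _) y ?_ hfib, rfl⟩
    rw [Scheme.Hom.comp_apply]
    exact (f.range_fiberι y).subset ⟨η, rfl⟩
  · have : Smooth ((V'.ι ≫ f).smoothLocus.ι ≫ V'.ι ≫ f) := smooth_smoothLocus (V'.ι ≫ f)
    rw [← Scheme.Hom.isoImage_inv_ι V'.ι (V'.ι ≫ f).smoothLocus, Category.assoc, Category.assoc]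
    infer_instance

theorem smoothCond_of_bc {g' : X' ⟶ X} {f' : X' ⟶ Y'} {f : X ⟶ Y} {g : Y' ⟶ Y}
    [LocallyOfFinitePresentation f] [Flat f]
    (sq : IsPullback g' f' f g) (z : X') (h : smoothCond f' z) : smoothCond f (g' z) := by
  have sqF := isPullback_fiberToSpecResidueField_of_isPullback sq (f' z)
  set m := pullback.map f' (Y'.fromSpecResidueField (f' z)) f (Y.fromSpecResidueField (g (f' z))) g'
    (Spec.map (g.residueFieldMap (f' z))) g sq.w.symm (by simp) with hm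
  obtain ⟨W, hW, hs⟩ := smoothCond_bc (IsPullback.of_hasPullback f' (Y'.fromSpecResidueField (f' z)))
    (f'.asFiber z) (show smoothCond f' (f'.fiberι (f' z) (f'.asFiber z)) by rwa [f'.fiberι_asFiber])
  let e := sqF.isoPullback
  obtain ⟨O, hO, hOs⟩ := Unram.BaseChangeNhd.exists_nhd_descend @Smooth (fun i _ => inferInstance)
    Unram.BaseChangeNhd.smooth_at_descend_ring (f.fiberToSpecResidueField (g (f' z)))
    (Spec.map (g.residueFieldMap (f' z))) (e.hom (f'.asFiber z))
    (by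
      let _ := (g.residueFieldMap (f' z)).hom.toAlgebra
      have : Flat (Spec.map (g.residueFieldMap (f' z))) :=
        (HasRingHomProperty.Spec_iff (P := @Flat)).2
          (RingHom.flat_algebraMap_iff.2 inferInstance :
            (algebraMap (Y.residueField (g (f' z))) (Y'.residueField (f' z))).Flat)
      exact Flat.stalkMap _ _)
    ⟨e.inv ⁻¹ᵁ W, by
        change e.inv (e.hom (f'.asFiber z)) ∈ W
        rwa [← Scheme.Hom.comp_apply, Iso.hom_inv_id],
      by
        rw [← sqF.isoPullback_inv_snd, ← morphismRestrict_ι_assoc]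
        haveI : Smooth (W.ι ≫ f'.fiberToSpecResidueField (f' z)) := hs
        exact MorphismProperty.comp_mem @Smooth (e.inv ∣_ W) _ inferInstance this⟩
  have h1 := smoothCond_of_fibre (f := f) (g (f' z)) _ ⟨O, hO, hOs⟩
  rw [← Scheme.Hom.comp_apply e.hom, sqF.isoPullback_hom_fst] at h1
  have h2 : m ≫ f.fiberι (g (f' z)) = f'.fiberι (f' z) ≫ g' := pullback.lift_fst _ _ _
  have h3 : f.fiberι (g (f' z)) (m (f'.asFiber z)) = g' z :=
    (congr($h2 (f'.asFiber z))).trans (congrArg g' (f'.fiberι_asFiber z))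
  exact h3 ▸ h1

theorem smoothCond_src (p : X' ⟶ X) [Etale p] (f : X ⟶ Y) (z : X') :
    smoothCond (p ≫ f) z ↔ smoothCond f (p z) := by
  constructor
  · rintro ⟨W, hW, hs⟩
    let W₁ : X.Opens := ⟨p '' (W : Set X'), p.isOpenMap _ W.2⟩
    refine ⟨W₁, ⟨z, hW, rfl⟩, ?_⟩
    let q : W.toScheme ⟶ W₁.toScheme := IsOpenImmersion.lift W₁.ι (W.ι ≫ p) (by
      rintro _ ⟨t, rfl⟩
      rw [Scheme.Opens.range_ι, Scheme.Hom.comp_apply]
      exact ⟨_, t.2, rfl⟩)
    have hq : q ≫ W₁.ι = W.ι ≫ p := IsOpenImmersion.lift_fac _ _ _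
    have : Etale q := by
      have : Etale (q ≫ W₁.ι) := by rw [hq]; infer_instance
      exact SourceDescent.Scheme.of_postcomp_etale SourceDescent.Scheme.etale q W₁.ι this
    have : Surjective q := ⟨fun ⟨t, s, hs', e⟩ => ⟨⟨s, hs'⟩, by
      apply Subtype.ext
      change W₁.ι (q ⟨s, hs'⟩) = t
      rw [← Scheme.Hom.comp_apply, hq, Scheme.Hom.comp_apply]; exact e⟩⟩
    refine SourceDescent.Scheme.smooth.descends q (W₁.ι ≫ f) inferInstance inferInstance ?_
    rw [← Category.assoc, hq, Category.assoc]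
    exact hs
  · rintro ⟨W, hW, hs⟩
    refine ⟨p ⁻¹ᵁ W, hW, ?_⟩
    rw [← morphismRestrict_ι_assoc]
    infer_instance

theorem smoothCond_good : smoothCond.{u}.Good where
  isOpen f _ := isOpen_iff_forall_mem_open.2 fun x ⟨W, hW, hs⟩ =>
    ⟨W, fun y hy => ⟨W, hy, hs⟩, W.2, hW⟩
  src p _ f _ z := smoothCond_src p f z
  bc sq h z := by
    have := h.1; have := h.2
    exact ⟨smoothCond_of_bc sq z, smoothCond_bc sq z⟩

theorem smoothCond_tgtInv : smoothCond.{u}.TgtInv := fun k β _ _ z =>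
  ⟨fun ⟨W, hW, hs⟩ => ⟨W, hW,
    SourceDescent.Scheme.of_postcomp_etale SourceDescent.Scheme.smooth (W.ι ≫ k) β
      (show Smooth ((W.ι ≫ k) ≫ β) by rwa [Category.assoc])⟩,
    fun ⟨W, hW, hs⟩ => ⟨W, hW, show Smooth (W.ι ≫ k ≫ β) by rw [← Category.assoc]; infer_instance⟩⟩

/-- Smooth of a given relative dimension near a point. -/
abbrev smoothDimCond (n : ℕ) : PtCond.{u} := fun _ _ f x =>
  smoothCond f x ∧ FlatMor.fibreDimAt f x = (n : WithBot ℕ∞)

theorem fibreDimAt_ι (W : X.Opens) (f : X ⟶ Y) [LocallyOfFiniteType f] (x : W.toScheme) :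
    FlatMor.fibreDimAt (W.ι ≫ f) x = FlatMor.fibreDimAt f (W.ι x) :=
  AlgSpThick.FibreDim.fibreDimAt_precomp W.ι f x

theorem smoothDimCond_good (n : ℕ) : (smoothDimCond.{u} n).Good where
  isOpen f h := isOpen_iff_forall_mem_open.2 fun x ⟨⟨W, hW, hs⟩, hn⟩ => by
    have := h.2
    obtain ⟨m, V, U, hV, hU, e, hx, hst⟩ := Kaehler.SmoothChart.exists_std_chart (W.ι ≫ f) ⟨x, hW⟩
    refine ⟨W.ι '' (U : Set W.toScheme), ?_, W.ι.isOpenEmbedding.isOpenMap _ U.2, ⟨_, hx, rfl⟩⟩
    rintro _ ⟨y, hy, rfl⟩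
    refine ⟨⟨W, y.2, hs⟩, ?_⟩
    rw [← fibreDimAt_ι W f y, Kaehler.SmoothChart.fibreDimAt_of_chart hV hU e hst hy,
      ← Kaehler.SmoothChart.fibreDimAt_of_chart hV hU e hst hx, fibreDimAt_ι W f _]
    exact hn
  src p _ f h z := by
    have := h.2
    exact and_congr (smoothCond_src p f z) (by rw [AlgSpThick.FibreDim.fibreDimAt_precomp p f z])
  bc sq h z := by
    have := h.1; have := h.2
    exact and_congr ⟨smoothCond_of_bc sq z, smoothCond_bc sq z⟩
      (by rw [H2.FibreDimPullback.fibreDimAt_of_isPullback sq z])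

theorem smoothDimCond_tgtInv (n : ℕ) : (smoothDimCond.{u} n).TgtInv := fun k β _ h z => by
  have := h.2
  have : LocallyOfFiniteType k := locallyOfFiniteType_of_comp k β
  exact and_congr (smoothCond_tgtInv k β h z)
    (by rw [AlgSpThick.FibreDim.fibreDimAt_postcomp k β z])

theorem smoothOfRelativeDimension_iff (n : ℕ) (f : X ⟶ Y) :
    SmoothOfRelativeDimension n f ↔ ∀ x, smoothDimCond n f x := by
  constructor
  · intro h x
    haveI : Smooth f := SmoothOfRelativeDimension.smooth n f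
    obtain ⟨V, hV, U, hU, hx, e, hst⟩ := h.exists_isStandardSmoothOfRelativeDimension x
    exact ⟨(smooth_iff_forall f).1 inferInstance x,
      Kaehler.SmoothChart.fibreDimAt_of_chart hV hU e hst hx⟩
  · intro h
    haveI : Smooth f := (smooth_iff_forall f).2 fun x => (h x).1
    refine ⟨fun x => ?_⟩
    obtain ⟨m, V, U, hV, hU, e, hx, hst⟩ := Kaehler.SmoothChart.exists_std_chart f x
    have := (Kaehler.SmoothChart.fibreDimAt_of_chart hV hU e hst hx).symm.trans (h x).2
    obtain rfl : m = n := by exact_mod_cast this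
    exact ⟨V, hV, U, hU, hx, e, hst⟩

end Groth.Agent.Lib.StCurv
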