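import Groth.Agent.Lib.StCurv.Criterion
import Groth.Agent.H54.CMBaseChange
import Groth.Agent.H54.CMAffine
import Groth.Agent.H54.CMMor
import Groth.Agent.Lib.GorenMor.BaseChange
import Groth.Agent.S1341

/-!
The Cohen–Macaulay condition at points is a good condition.
-/

set_option autoImplicit false

universe u

open CategoryTheory CategoryTheory.Limits AlgebraicGeometry

namespace Groth.Agent.Lib.StCurv

/-- Cohen–Macaulay at a point. -/
abbrev cmCond : PtCond.{u} := fun _ _ f x => MoreMor.IsCMAt f x

theorem flat_of_comp_etale {A B C : Scheme.{u}} (k : A ⟶ B) (β : B ⟶ C) [Etale β] [Flat (k ≫ β)] :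
    Flat k :=
  haveI : MorphismProperty.HasOfPostcompProperty (@Flat : MorphismProperty Scheme.{u}) @Etale := by
    rw [MorphismProperty.hasOfPostcompProperty_iff_le_diagonal]
    intro X Y f hf
    have : Etale f := hf
    change Flat (pullback.diagonal f)
    infer_instance
  MorphismProperty.of_postcomp (W := @Flat) (W' := @Etale) k β inferInstance inferInstance

theorem cmCond_good : cmCond.{u}.Good where
  isOpen f h := haveI := h.1; haveI := h.2; (Groth.Agent.S1341.result f).1
  src p _ f h z := by
    have := h.1; have := h.2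
    refine ⟨fun hz => (H54.CMMor.isCMAt_of_comp p f z hz (Flat.stalkMap p z)).2, fun hz => ?_⟩
    exact H54.CMMor.isCMAt_comp p f z (GorenMor.BaseChange.isLocallyNoetherian_fiber _)
      (H54.CMAffine.isCMAt_of_smooth p z) hz
  bc {X' X Y' Y g' f' f g} sq h z := by
    have := h.1; have := h.2
    exact ⟨H54.CMBaseChange.isCMAt_of_baseChange sq z, H54.CMBaseChange.isCMAt_baseChange sq z⟩

theorem cmCond_tgtInv : cmCond.{u}.TgtInv := fun k β _ h z => by
  have := h.1; have := h.2
  have : Flat k := flat_of_comp_etale k β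
  refine ⟨fun hz => (H54.CMMor.isCMAt_of_comp k β z hz (Flat.stalkMap k z)).1, fun hz => ?_⟩
  exact H54.CMMor.isCMAt_comp k β z (GorenMor.BaseChange.isLocallyNoetherian_fiber _)
    hz (H54.CMAffine.isCMAt_of_smooth β (k z))

end Groth.Agent.Lib.StCurv
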