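import Groth.Agent.Lib.StCurv.Criterion
import Groth.Agent.Lib.GorenMor.Local
import Groth.Agent.Lib.GorenMor.Etale

/-!
The Gorenstein condition at points is a good condition.
-/

set_option autoImplicit false

universe u

open CategoryTheory CategoryTheory.Limits AlgebraicGeometry

namespace Groth.Agent.Lib.StCurv

open Groth.Agent.Lib.GorenMor

/-- Gorenstein at a point. -/
abbrev gorCond : PtCond.{u} := fun _ _ f x => Dual3.IsGorensteinAt f x

theorem gorCond_good : gorCond.{u}.Good where
  isOpen f h := haveI := h.2; Local.isOpen_gorensteinLocus f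
  src p _ f _ z := Etale.isGorensteinAt_precomp_iff p f z
  bc {X' X Y' Y g' f' f g} sq h z := by
    have := h.1; have := h.2
    exact ⟨BaseChange.isGorensteinAt_of_baseChange sq z (BaseChange.isLocallyNoetherian_fiber _)
        (Or.inr inferInstance) (Flat.stalkMap _ _),
      BaseChange.isGorensteinAt_baseChange' sq z (Or.inr inferInstance)⟩

theorem gorCond_tgtInv : gorCond.{u}.TgtInv :=
  fun k β _ _ z => Etale.isGorensteinAt_postcomp_iff k β z

end Groth.Agent.Lib.StCurv
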