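import Groth.Agent.Lib.StCurv.Criterion
import Groth.Agent.Lib.AlgSpDecent.RelDim
import Groth.Agent.Lib.AlgSpMor.QC

/-!
The family with total space equal to its base, and nonemptiness of fibres of substacks of curves.
-/

set_option autoImplicit false
set_option backward.isDefEq.respectTransparency false
set_option backward.isDefEq.respectTransparency.types false

universe u

open CategoryTheory CategoryTheory.Limits AlgebraicGeometry

namespace Groth.Agent.Lib.StCurv

open AlgSp (Sp yon RepWith IsAlgSpace LocP Points)
open Groth.Agent.Lib.AlgSpace Groth.Agent.Lib.AlgSpMor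

variable {S : Scheme.{u}}

/-- The family with total space the base. -/
abbrev idFam (T : Over S) : CurvSt.SpFamObj S 0 :=
  { base := T, X := (yon S).obj T, f := 𝟙 _, sect := Fin.elim0, sect_f := fun i => i.elim0 }

/-- A property of etale morphisms holds etale locally on the identity. -/
theorem locP_id (T : Over S) {P : MorphismProperty Scheme.{u}}
    (hP : ∀ {A B : Scheme.{u}} (g : A ⟶ B), Etale g → P g) : LocP P (𝟙 ((yon S).obj T)) := by
  intro U V a b h ha hb w
  exact hP _ (LocP.etale_of_comm ha hb h (by rw [← w, Category.comp_id]))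

theorem repWith_closedImmersion_id (T : Over S) : RepWith @IsClosedImmersion (𝟙 ((yon S).obj T)) :=
  AlgSp.repWith_id @IsClosedImmersion T

theorem isCurveFam_idFam (T : Over S) : CurvSt.IsCurveFam (idFam T) := by
  have hp := Proper.isProperMor_of_closedImmersion (repWith_closedImmersion_id T)
  refine ⟨IsAlgSpace.yon_obj T, locP_id T fun g (_ : Etale g) => inferInstance, hp,
    ⟨locP_id T fun g (_ : Etale g) => inferInstance, hp.2.1.2,
      repWith_mono hp.1 fun _ _ g (_ : IsClosedImmersion g) => (inferInstance : QuasiCompact g)⟩,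
    fun x => ?_⟩
  obtain ⟨U, V, a, b, h, u, ha, hb, w, hu⟩ := AlgSpDecent.RelDim.exists_chart_at
    (IsAlgSpace.yon_obj T) (IsAlgSpace.yon_obj T) (idFam T).f x
  refine ⟨U, V, a, b, h, u, ha, hb, w, hu, ?_⟩
  have he : Etale h.left := LocP.etale_of_comm ha hb h (w.symm.trans (Category.comp_id _))
  have h0 := (AlgSpDecent.RelDim.quasiFiniteAt_iff_fibreDimAt h.left u).1
    (h.left.quasiFiniteAt u)
  exact h0.le.trans (by norm_num)

/-- Substacks containing the identity family of a scheme have objects over it. -/
theorem nonempty_fiber (T : Over S) {Q : CurvSt.SpFamObj S 0 → Prop} (hQ : Q (idFam T)) :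
    Nonempty ((AlgSt.fullSub (CurvSt.Curves S 0) (fun A => Q A.obj)).p.Fiber T) :=
  ⟨⟨⟨⟨idFam T, isCurveFam_idFam T⟩, hQ⟩, rfl⟩⟩

end Groth.Agent.Lib.StCurv
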