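import Groth.Agent.Lib.StCurv.Criterion
import Groth.Agent.Lib.AlgSpLci.Scheme
import Groth.Agent.Lib.Synt92.LciScheme
import Groth.Agent.Lib.SourceDescent.Scheme

/-!
The Koszul condition at points is a good condition.
-/

set_option autoImplicit false
set_option backward.isDefEq.respectTransparency false
set_option backward.isDefEq.respectTransparency.types false

universe u

open CategoryTheory CategoryTheory.Limits AlgebraicGeometry

namespace Groth.Agent.Lib.StCurv

open Synt92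

/-- Koszul at a point. -/
abbrev lciCond : PtCond.{u} := fun _ _ f x => Synt.IsKoszulAt f x

variable {X Y X' : Scheme.{u}}

theorem lci_ι {f : X ⟶ Y} (W : X.Opens) (h : ∀ x ∈ W, Synt.IsKoszulAt f x) : AlgSp.lci (W.ι ≫ f) :=
  fun x => (AlgSpLci.isKoszulAt_openImmersion_iff W.ι f x).2 (h _ x.2)

theorem lciCond_src (p : X' ⟶ X) [Etale p] (f : X ⟶ Y) (z : X') :
    lciCond (p ≫ f) z ↔ lciCond f (p z) := by
  constructor
  · intro hz
    let W : X'.Opens := ⟨_, AlgSpLci.isOpen_setOf_isKoszulAt (p ≫ f)⟩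
    let W₁ : X.Opens := ⟨p '' (W : Set X'), p.isOpenMap _ W.2⟩
    let q : W.toScheme ⟶ W₁.toScheme := IsOpenImmersion.lift W₁.ι (W.ι ≫ p) (by
      rintro _ ⟨t, rfl⟩
      rw [Scheme.Opens.range_ι, Scheme.Hom.comp_apply]
      exact ⟨_, t.2, rfl⟩)
    have hq : q ≫ W₁.ι = W.ι ≫ p := IsOpenImmersion.lift_fac _ _ _
    have : Etale q := by
      have : Etale (q ≫ W₁.ι) := by rw [hq]; infer_instance
      exact SourceDescent.Scheme.of_postcomp_etale SourceDescent.Scheme.etale q W₁.ι this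
    have : Surjective q := ⟨fun ⟨t, s, hs', e⟩ => ⟨⟨s, hs'⟩, by
      apply Subtype.ext
      change W₁.ι (q ⟨s, hs'⟩) = t
      rw [← Scheme.Hom.comp_apply, hq, Scheme.Hom.comp_apply]; exact e⟩⟩
    have h1 : AlgSp.lci (W₁.ι ≫ f) := by
      refine LciScheme.lci_descends_etale q _ ?_
      rw [← Category.assoc, hq, Category.assoc]
      exact lci_ι W fun _ hx => hx
    exact (AlgSpLci.isKoszulAt_openImmersion_iff W₁.ι f ⟨p z, z, hz, rfl⟩).1 (h1 _)
  · intro hz
    let O : X.Opens := ⟨_, AlgSpLci.isOpen_setOf_isKoszulAt f⟩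
    refine (AlgSpLci.isKoszulAt_openImmersion_iff (p ⁻¹ᵁ O).ι (p ≫ f) ⟨z, hz⟩).1 ?_
    rw [← morphismRestrict_ι_assoc]
    exact LciScheme.lci_comp _ _ (LciScheme.lci_of_smooth (p ∣_ O)) (lci_ι O fun _ hx => hx) _

theorem lciCond_good : lciCond.{u}.Good where
  isOpen f _ := AlgSpLci.isOpen_setOf_isKoszulAt f
  src p _ f _ z := lciCond_src p f z
  bc {X' X Y' Y g' f' f g} sq h z := by
    have := h.1; have := h.2
    have : Flat (f ≫ 𝟙 Y) := by rw [Category.comp_id]; infer_instance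
    have : LocallyOfFinitePresentation (f ≫ 𝟙 Y) := by rw [Category.comp_id]; infer_instance
    exact AlgSpLci.isKoszulAt_baseChange_iff f (𝟙 Y) g g (𝟙 Y')
      (IsPullback.of_vert_isIso ⟨by simp⟩) g' f' (by simpa using sq) sq.w z

theorem lciCond_tgtInv : lciCond.{u}.TgtInv := fun {X Y Y'} k β _ _ z => by
  constructor
  · intro hz
    let W : X.Opens := ⟨_, AlgSpLci.isOpen_setOf_isKoszulAt (k ≫ β)⟩
    have h1 : AlgSp.lci (W.ι ≫ k) := LciScheme.lci_cancel _ β (by
      rw [Category.assoc]; exact lci_ι W fun _ hx => hx)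
    exact (AlgSpLci.isKoszulAt_openImmersion_iff W.ι k ⟨z, hz⟩).1 (h1 _)
  · intro hz
    let W : X.Opens := ⟨_, AlgSpLci.isOpen_setOf_isKoszulAt k⟩
    refine (AlgSpLci.isKoszulAt_openImmersion_iff W.ι (k ≫ β) ⟨z, hz⟩).1 ?_
    rw [← Category.assoc]
    exact LciScheme.lci_comp _ _ (lci_ι W fun _ hx => hx) (LciScheme.lci_of_smooth β) _

end Groth.Agent.Lib.StCurv
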