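import Groth.Agent.Lib.StCurv.IdFam
import Groth.Agent.Lib.StCurv.CohenMacaulay
import Groth.Agent.Lib.StCurv.Gorenstein
import Groth.Agent.Lib.StCurv.Smooth
import Groth.Agent.Lib.ProjSpace.Basic
import Groth.Agent.Lib.GorenMor.AffineSpace
import Groth.Agent.H46.DimData

/-!
Families of curves of relative dimension one, and scheme families of curves.
-/

set_option autoImplicit false
set_option backward.isDefEq.respectTransparency false
set_option backward.isDefEq.respectTransparency.types false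

universe u

open CategoryTheory CategoryTheory.Limits AlgebraicGeometry

namespace Groth.Agent.Lib.StCurv

open AlgSp (Sp yon RepWith IsAlgSpace LocP Points)
open Groth.Agent.Lib.AlgSpace Groth.Agent.Lib.AlgSpMor

/-- Near a Cohen–Macaulay point the fibre dimension is constant. -/
theorem exists_open_fibreDimAt_eq {X Y : Scheme.{u}} (f : X ⟶ Y) [LocallyOfFinitePresentation f]
    (x : X) (hx : MoreMor.IsCMAt f x) :
    ∃ W : X.Opens, x ∈ W ∧ ∀ z ∈ W, FlatMor.fibreDimAt f z = FlatMor.fibreDimAt f x := by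
  obtain ⟨U, g, hU, hg, hfl, hqf, -⟩ := H54.CMAffine.exists_map_of_isCMAt f x hx
  refine ⟨U, hU, fun z hz => ?_⟩
  rw [H46.DimData.fibreDimAt_eq, H46.DimData.fibreDimAt_eq]
  exact congrArg _ (H54.CMAffine.isCMAt_of_open_map f U g hg ⟨z, hz⟩
    (Scheme.Hom.quasiFiniteAt g _) (Flat.stalkMap g _)).2

/-- A condition together with a prescribed fibre dimension. -/
abbrev withDim (R : PtCond.{u}) (n : ℕ) : PtCond.{u} := fun _ _ f x =>
  R f x ∧ FlatMor.fibreDimAt f x = (n : WithBot ℕ∞)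

theorem withDim_good {R : PtCond.{u}} (hR : R.Good)
    (hcm : ∀ {X Y : Scheme.{u}} (f : X ⟶ Y) x, R f x → MoreMor.IsCMAt f x) (n : ℕ) :
    (withDim R n).Good where
  isOpen f h := isOpen_iff_forall_mem_open.2 fun x ⟨hx, hn⟩ => by
    have := h.2
    obtain ⟨W, hW, hWn⟩ := exists_open_fibreDimAt_eq f x (hcm f x hx)
    exact ⟨(W : Set _) ∩ {x | R f x}, fun z hz => ⟨hz.2, (hWn z hz.1).trans hn⟩,
      W.2.inter (hR.isOpen f h), hW, hx⟩
  src p _ f h z := by
    have := h.2
    exact and_congr (hR.src p f h z) (by rw [AlgSpThick.FibreDim.fibreDimAt_precomp p f z])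
  bc sq h z := by
    have := h.2
    exact and_congr (hR.bc sq h z) (by rw [H2.FibreDimPullback.fibreDimAt_of_isPullback sq z])

variable {S : Scheme.{u}} {n : ℕ}

/-- Relative dimension exactly `d` is read on a chart. -/
theorem relDim_iff_chart {A : CurvSt.SpFamObj S n} (hA : CurvSt.IsCurveFam A) (d : ℕ) {U : Over S}
    {a : (yon S).obj U ⟶ A.X} {h : U ⟶ A.base} (ha : RepWith @Etale a) (has : RepWith @Surjective a)
    (w : a ≫ A.f = (yon S).map h) :
    (∀ x : Points A.X, AlgSp.HasAtMor (fun _ _ h u => FlatMor.fibreDimAt h u = (d : WithBot ℕ∞)) A.f x) ↔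
      ∀ u, FlatMor.fibreDimAt h.left u = (d : WithBot ℕ∞) := by
  have hl : LocP @LocallyOfFiniteType A.f := hA.2.2.1.2.1.1
  have key := fun u => AlgSpDecent.RelDim.hasAtMor_fibreDim_pred hA.1 (IsAlgSpace.yon_obj A.base) hl
    (fun e => e = (d : WithBot ℕ∞)) ha (repWith_etale_id A.base)
    (w.trans (Category.comp_id _).symm) u
  refine ⟨fun H u => (key u).1 (H _), fun H x => ?_⟩
  obtain ⟨u, rfl⟩ := AlgSpace.surjective_ofPt has x
  exact (key u).2 (H u)

/-- Conditions read etale locally together with relative dimension `d` define open substacks. -/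
theorem isOpenSubstack_locP_relDim
    (hC : AlgSt.IsAlgStack Scheme.fppfPrecoverage (CurvSt.Curves S n))
    {R : PtCond.{u}} (hR : R.Good) (hT : R.TgtInv) {P : MorphismProperty Scheme.{u}}
    (hP : ∀ {X Y : Scheme.{u}} (f : X ⟶ Y), Tame f → (P f ↔ ∀ x, R f x))
    (hcm : ∀ {X Y : Scheme.{u}} (f : X ⟶ Y) x, R f x → MoreMor.IsCMAt f x) (d : ℕ) :
    AlgSt.IsOpenSubstack (CurvSt.Curves S n) (fun A => LocP P A.obj.f ∧
      ∀ x : Points A.obj.X,
        AlgSp.HasAtMor (fun _ _ h u => FlatMor.fibreDimAt h u = (d : WithBot ℕ∞)) A.obj.f x)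
      Scheme.fppfPrecoverage :=
  isOpenSubstack_of_ptCond hC (withDim_good hR hcm d)
    (fun A => LocP P A.f ∧ ∀ x : Points A.X,
      AlgSp.HasAtMor (fun _ _ h u => FlatMor.fibreDimAt h u = (d : WithBot ℕ∞)) A.f x)
    fun _ hB _ _ _ ha has w =>
      (and_congr (locP_iff_chart hR hT hP hB ha has w) (relDim_iff_chart hB d ha has w)).trans
        forall_and.symm

/-- The family of sheaves of a family of schemes. -/
abbrev schFam {X T : Over S} (h : X ⟶ T) : CurvSt.SpFamObj S 0 :=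
  { base := T, X := (yon S).obj X, f := (yon S).map h, sect := Fin.elim0, sect_f := fun i => i.elim0 }

theorem isCurveFam_schFam {X T : Over S} (h : X ⟶ T) [Flat h.left] [IsProper h.left]
    [LocallyOfFinitePresentation h.left] (hd : ∀ x, FlatMor.fibreDimAt h.left x ≤ (1 : ℕ)) :
    CurvSt.IsCurveFam (schFam h) := by
  have hq : AlgSp.IsQuasiCompactMor ((yon S).map h) :=
    QC.isQuasiCompactMor_of_repWith ((AlgSp.repWith_yon_map_iff @QuasiCompact h).2 inferInstance)
  refine ⟨IsAlgSpace.yon_obj X,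
    LocP.locP_of_repWith SourceDescent.Scheme.flat ((AlgSp.repWith_yon_map_iff _ h).2 inferInstance),
    ⟨(AlgSp.isSeparatedMor_yon_map_iff h).2 inferInstance,
      ⟨LocP.locP_of_repWith SourceDescent.Scheme.locallyOfFiniteType
        ((AlgSp.repWith_yon_map_iff _ h).2 inferInstance), hq⟩,
      Proper.isUnivClosedMor_of_repWith ((AlgSp.repWith_yon_map_iff _ h).2 inferInstance)⟩,
    ⟨LocP.locP_of_repWith SourceDescent.Scheme.locallyOfFinitePresentation
        ((AlgSp.repWith_yon_map_iff _ h).2 inferInstance), hq,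
      (AlgSp.isQuasiSeparatedMor_yon_map_iff h).2 inferInstance⟩, fun x => ?_⟩
  obtain ⟨u, rfl⟩ := AlgSpace.surjective_ofPt (repWith_surjective_id X) x
  exact ⟨X, T, 𝟙 _, 𝟙 _, h, u, repWith_etale_id X, repWith_etale_id T, by simp, rfl, hd u⟩

/-- The projective line over an algebraically closed point. -/
theorem exists_p1Fam (Ω : Type u) [Field Ω] (t : Spec (CommRingCat.of Ω) ⟶ S) :
    ∃ (X : Over S) (h : X ⟶ Over.mk t), Smooth h.left ∧ CurvSt.IsCurveFam (schFam h) ∧
      ∀ x, FlatMor.fibreDimAt h.left x = ((1 : ℕ) : WithBot ℕ∞) := by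
  let h : Over.mk (CohB1.ProjSpace.toSpec 1 Ω ≫ t) ⟶ Over.mk t :=
    Over.homMk (CohB1.ProjSpace.toSpec 1 Ω) rfl
  haveI : SmoothOfRelativeDimension 1 h.left :=
    inferInstanceAs (SmoothOfRelativeDimension 1 (CohB1.ProjSpace.toSpec 1 Ω))
  haveI : Smooth h.left := SmoothOfRelativeDimension.smooth 1 _
  haveI : IsProper h.left := inferInstanceAs (IsProper (CohB1.ProjSpace.toSpec 1 Ω))
  have hd : ∀ x, FlatMor.fibreDimAt h.left x = ((1 : ℕ) : WithBot ℕ∞) := fun x =>
    ((smoothOfRelativeDimension_iff 1 h.left).1 inferInstance x).2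
  exact ⟨_, h, inferInstance, isCurveFam_schFam h fun x => (hd x).le, hd⟩

/-- A substack given by a condition read etale locally and relative dimension one has geometric
points everywhere. -/
theorem nonempty_fiber_relDimOne {R : PtCond.{u}} (hR : R.Good) (hT : R.TgtInv)
    {P : MorphismProperty Scheme.{u}}
    (hP : ∀ {X Y : Scheme.{u}} (f : X ⟶ Y), Tame f → (P f ↔ ∀ x, R f x))
    (hsm : ∀ {X Y : Scheme.{u}} (f : X ⟶ Y), Smooth f → ∀ x, R f x)
    (Ω : Type u) [Field Ω] (t : Spec (CommRingCat.of Ω) ⟶ S) :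
    Nonempty ((AlgSt.fullSub (CurvSt.Curves S 0) (fun A => LocP P A.obj.f ∧
      ∀ x : Points A.obj.X,
        AlgSp.HasAtMor (fun _ _ h u => FlatMor.fibreDimAt h u = ((1 : ℕ) : WithBot ℕ∞)) A.obj.f x)).p.Fiber
          (Over.mk t)) := by
  obtain ⟨X, h, hs, hc, hd⟩ := exists_p1Fam Ω t
  refine ⟨⟨⟨⟨schFam h, hc⟩, ?_, fun x => ?_⟩, rfl⟩⟩
  · exact (locP_iff_chart hR hT hP hc (U := X) (a := 𝟙 _) (h := h) (repWith_etale_id X)
      (repWith_surjective_id X) (Category.id_comp _)).2 (hsm h.left hs)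
  · exact (relDim_iff_chart hc 1 (U := X) (a := 𝟙 _) (h := h) (repWith_etale_id X)
      (repWith_surjective_id X) (Category.id_comp _)).2 hd x

end Groth.Agent.Lib.StCurv
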